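import Mathlib

/-!
# Steinitz: algebraically closed fields of equal transcendence degree
-/

set_option autoImplicit false
universe u v

namespace GrothLib.Steinitz1

/-- Algebraically closed extensions of equal transcendence degree are isomorphic over the base. -/
theorem nonempty_ringEquiv_of_trdeg_eq (R K L : Type u) [Field R] [Field K] [Field L] [Algebra R K] [Algebra R L]
    [IsAlgClosed K] [IsAlgClosed L] (h : Algebra.trdeg R K = Algebra.trdeg R L) :
    ∃ e : K ≃+* L, ∀ r : R, e (algebraMap R K r) = algebraMap R L r := by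
  obtain ⟨s, hs⟩ := exists_isTranscendenceBasis R K
  obtain ⟨t, ht⟩ := exists_isTranscendenceBasis R L
  have hc : Cardinal.mk s = Cardinal.mk t := by rw [hs.cardinalMk_eq_trdeg, ht.cardinalMk_eq_trdeg, h]
  obtain ⟨σ⟩ := Cardinal.eq.1 hc
  letI := IsAlgClosed.isAlgClosure_of_transcendence_basis _ hs
  letI := IsAlgClosed.isAlgClosure_of_transcendence_basis _ ht
  let e' := hs.1.aevalEquiv.symm.trans ((MvPolynomial.renameEquiv R σ).trans ht.1.aevalEquiv)
  refine ⟨IsAlgClosure.equivOfEquiv K L e'.toRingEquiv, fun r => ?_⟩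
  rw [IsScalarTower.algebraMap_apply R (Algebra.adjoin R (Set.range (Subtype.val : s → K))) K r,
    IsAlgClosure.equivOfEquiv_algebraMap]
  show algebraMap (Algebra.adjoin R (Set.range (Subtype.val : t → L))) L (e' (algebraMap R _ r)) = _
  rw [e'.commutes, ← IsScalarTower.algebraMap_apply]

/-- Two embeddings of a finitely generated domain into algebraically closed extensions of the same infinite
transcendence degree differ by an isomorphism. -/
theorem exists_ringEquiv_extending (k0 R0 K L : Type u) [Field k0] [CommRing R0] [IsDomain R0] [Algebra k0 R0]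
    [Algebra.FiniteType k0 R0] [Field K] [Field L] [Algebra k0 K] [Algebra k0 L] [IsAlgClosed K] [IsAlgClosed L]
    (f : R0 →ₐ[k0] K) (g : R0 →ₐ[k0] L) (hf : Function.Injective f) (hg : Function.Injective g)
    (hinf : Cardinal.aleph0 ≤ Algebra.trdeg k0 K) (h : Algebra.trdeg k0 L = Algebra.trdeg k0 K) :
    ∃ e : K ≃+* L, ∀ r : R0, e (f r) = g r := by
  let K0 := FractionRing R0
  letI : Algebra K0 K := (IsFractionRing.lift (g := f.toRingHom) hf).toAlgebra
  letI : Algebra K0 L := (IsFractionRing.lift (g := g.toRingHom) hg).toAlgebra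
  haveI : IsScalarTower k0 K0 K := IsScalarTower.of_algebraMap_eq fun c => by
    show algebraMap k0 K c = IsFractionRing.lift (g := f.toRingHom) hf (algebraMap k0 K0 c)
    rw [IsScalarTower.algebraMap_apply k0 R0 K0, IsFractionRing.lift_algebraMap]
    exact (f.commutes c).symm
  haveI : IsScalarTower k0 K0 L := IsScalarTower.of_algebraMap_eq fun c => by
    show algebraMap k0 L c = IsFractionRing.lift (g := g.toRingHom) hg (algebraMap k0 K0 c)
    rw [IsScalarTower.algebraMap_apply k0 R0 K0, IsFractionRing.lift_algebraMap]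
    exact (g.commutes c).symm
  haveI : Algebra.IsAlgebraic R0 K0 := IsLocalization.isAlgebraic K0 (nonZeroDivisors R0)
  have h0 : Algebra.trdeg k0 K0 < Cardinal.aleph0 := by
    rw [← trdeg_add_eq k0 R0 (A := K0), trdeg_eq_zero (R := R0) (A := K0), add_zero]
    exact trdeg_lt_aleph0_of_finiteType
  have key : ∀ a b c : Cardinal.{u}, a < Cardinal.aleph0 → Cardinal.aleph0 ≤ c → a + b = c → b = c := by
    intro a b c ha hc h
    have hb : Cardinal.aleph0 ≤ b := by
      by_contra hb
      exact absurd (Cardinal.add_lt_aleph0 ha (not_le.1 hb)) (not_lt.2 (h ▸ hc))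
    rw [← h, Cardinal.add_eq_right hb (ha.le.trans hb)]
  have h1 : Algebra.trdeg K0 K = Algebra.trdeg k0 K := key _ _ _ h0 hinf (trdeg_add_eq k0 K0)
  have h2 : Algebra.trdeg K0 L = Algebra.trdeg k0 K := key _ _ _ h0 hinf ((trdeg_add_eq k0 K0).trans h)
  obtain ⟨e, he⟩ := nonempty_ringEquiv_of_trdeg_eq K0 K L (h1.trans h2.symm)
  refine ⟨e, fun r => ?_⟩
  have hr := he (algebraMap R0 K0 r)
  rw [RingHom.algebraMap_toAlgebra, RingHom.algebraMap_toAlgebra, IsFractionRing.lift_algebraMap,
    IsFractionRing.lift_algebraMap] at hr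
  exact hr

end GrothLib.Steinitz1
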